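import Mathlib
import Groth.Prelude.Def_Cyc
import Groth.Prelude.Def_W4stkchowintpicEnv

set_option linter.style.haveILetI false
set_option linter.unusedVariables false
set_option linter.unusedSectionVars false
set_option autoImplicit false
set_option backward.isDefEq.respectTransparency.types false
set_option synthInstance.maxHeartbeats 400000
set_option maxHeartbeats 1600000

namespace Groth.Agent.Helper7.CycEnv

open CategoryTheory AlgebraicGeometry

universe u

/-! helper7: pushforward along an envelope is surjective on cycles -/

/-! helper7: pushforward along an envelope is surjective on cycles (helper7) -/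

theorem finrank_eq_one_of_surjective {K L : Type u} [Field K] [Field L] [Algebra K L]
    (h : Function.Surjective (algebraMap K L)) : Module.finrank K L = 1 := by
  rw [← Subalgebra.bot_eq_top_iff_finrank_eq_one]
  exact (Algebra.surjective_algebraMap_iff.mp h).symm

theorem trdeg_eq_zero_of_surjective {K L : Type u} [Field K] [Field L] [Algebra K L]
    (h : Function.Surjective (algebraMap K L)) : Algebra.trdeg K L = 0 := by
  haveI : Algebra.IsIntegral K L := Algebra.isIntegral_of_surjective h
  exact _root_.trdeg_eq_zero

theorem S6482_main (X Y : Scheme.{u}) (δ : X → ℤ) (δY : Y → ℤ) (f : Y ⟶ X) [IsProper f]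
    (hcd : Cyc.IsCompletelyDecomposed f) (hδ : Cyc.DeltaCompat f δY δ) (k : ℤ)
    (α : AlgebraicCycle X ℤ) (hα : α ∈ Cyc.Zk X δ k) :
    ∃ β : AlgebraicCycle Y ℤ, β ∈ Cyc.Zk Y δY k ∧ AlgebraicCycle.map f δY δ β = α := by
  classical
  choose s hs using hcd
  -- points of the form `s x` have the same dimension as their image and residue degree one
  have hdim : ∀ x : X, δY (s x) = δ (f (s x)) := by
    intro x
    obtain ⟨n, hn, hδn⟩ := hδ (s x)
    letI := (f.residueFieldMap (s x)).hom.toAlgebra
    have h0 : Algebra.trdeg (X.residueField (f (s x))) (Y.residueField (s x)) = 0 :=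
      trdeg_eq_zero_of_surjective (hs x).2
    rw [h0] at hn
    have : n = 0 := by exact_mod_cast hn.symm
    rw [hδn, this]
    simp
  have hdeg : ∀ x : X, f.residueDegree (s x) = 1 := by
    intro x
    unfold Scheme.Hom.residueDegree
    letI := (f.residueFieldMap (s x)).hom.toAlgebra
    exact finrank_eq_one_of_surjective (hs x).2
  let b : Y → ℤ := fun y => if y = s (f y) then α (f y) else 0
  have hb_ne : ∀ y, b y ≠ 0 → y = s (f y) ∧ α (f y) ≠ 0 := by
    intro y hy
    by_cases h : y = s (f y)
    · refine ⟨h, ?_⟩
      intro h0
      apply hy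
      change (if y = s (f y) then α (f y) else 0) = 0
      rw [if_pos h, h0]
    · exfalso
      apply hy
      change (if y = s (f y) then α (f y) else 0) = 0
      rw [if_neg h]
  let β : AlgebraicCycle Y ℤ :=
    { toFun := b
      supportWithinDomain' := Set.subset_univ _
      supportLocallyFiniteWithinDomain' := fun y _ => by
        obtain ⟨t, ht, hfin⟩ := α.supportLocallyFiniteWithinDomain (f y) (Set.mem_univ _)
        refine ⟨f ⁻¹' t, f.continuous.continuousAt ht, ?_⟩
        refine (hfin.image s).subset ?_
        rintro y' ⟨hy't, hy'b⟩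
        obtain ⟨h1, h2⟩ := hb_ne y' hy'b
        exact ⟨f y', ⟨hy't, h2⟩, h1.symm⟩ }
  have hcoe : ∀ y, β y = b y := fun y => rfl
  refine ⟨β, ?_, ?_⟩
  · intro y hy
    rw [hcoe]
    by_contra hne
    obtain ⟨h1, h2⟩ := hb_ne y hne
    apply h2
    apply hα
    intro hk
    apply hy
    rw [h1, hdim, ← h1, hk]
  · ext x
    change (∑ᶠ y ∈ f ⁻¹' {x}, β y * ((AlgebraicCycle.mapCoeff f δY δ y : ℕ) : ℤ)) = α x
    rw [finsum_mem_def, finsum_eq_single _ (s x)]
    · have hmem : s x ∈ f ⁻¹' {x} := (hs x).1
      rw [Set.indicator_of_mem hmem, hcoe]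
      have hbx : b (s x) = α x := by
        change (if s x = s (f (s x)) then α (f (s x)) else 0) = α x
        rw [(hs x).1, if_pos rfl]
      rw [hbx]
      by_cases h0 : α x = 0
      · rw [h0, zero_mul]
      · unfold AlgebraicCycle.mapCoeff
        rw [if_pos (hdim x), hdeg x]
        simp
    · intro y hy
      by_cases hmem : y ∈ f ⁻¹' {x}
      · rw [Set.indicator_of_mem hmem, hcoe]
        have : b y = 0 := by
          change (if y = s (f y) then α (f y) else 0) = 0
          rw [if_neg]
          intro h
          apply hy
          rw [h]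
          congr 1
        rw [this, zero_mul]
      · rw [Set.indicator_of_notMem hmem]

end Groth.Agent.Helper7.CycEnv
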