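import Mathlib
import Groth.Prelude.Def_Cyc
import Groth.Prelude.Def_W4stkchowintpicEnv
import Groth.Agent.Lib.Helper7.CycEnv.Main
import Groth.Agent.Lib.Helper7.PushRat.Main
import Groth.Agent.Lib.Helper7.P1Rat.Graph

set_option linter.style.haveILetI false
set_option linter.unusedVariables false
set_option linter.unusedSectionVars false
set_option autoImplicit false
set_option backward.isDefEq.respectTransparency.types false
set_option synthInstance.maxHeartbeats 400000
set_option maxHeartbeats 1600000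

namespace Groth.Agent.Helper7.CycEnv

open CategoryTheory CategoryTheory.Limits AlgebraicGeometry TopologicalSpace Opposite IsLocalRing
open Groth.Agent.Helper7.DivFin Groth.Agent.Helper7.FinDeg Groth.Agent.Helper7.FinPush
open Groth.Agent.Helper7.KL Groth.Agent.Helper7.PDeg Groth.Agent.Helper7.GFib
open Groth.Agent.Helper7.PushRat Groth.Agent.Helper7.P1Rat

universe u

/-! helper7: Exactness for envelopes: pointwise proper pushforward of a locally finite family of principal divisors, points of the fibre square with prescribed residue field, and the cycle on the fibre square realizing a cycle killed by pushforward (helper7 library) -/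

section MapFamily

/-- the proper pushforward of a locally finite sum of principal divisors, pointwise -/
theorem map_family (X Y : Scheme.{u}) (δX : X → ℤ) (δY : Y → ℤ) (hX : Cyc.IsSetup X δX)
    (hY : Cyc.IsSetup Y δY) (p : X ⟶ Y) [IsProper p] (hδ : Cyc.DeltaCompat p δX δY)
    (ι : Type u) (ξ : ι → X) (f : (a : ι) → X.residueField (ξ a)) (hf : ∀ a, f a ≠ 0)
    (hlf : ∀ x : X, ∃ U : Set X, IsOpen U ∧ x ∈ U ∧
      {a | (closure {ξ a} ∩ U).Nonempty}.Finite)
    (E : AlgebraicCycle X ℤ) (hE : ∀ x, E x = ∑ᶠ a, Cyc.divFun δX (ξ a) (f a) x) (y : Y) :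
    (AlgebraicCycle.map p δX δY E) y = ∑ᶠ a, (if δX (ξ a) = δY (p (ξ a)) then
      Cyc.divFun δY (p (ξ a)) (Cyc.normGen p (ξ a) (f a)) y else 0) := by
  classical
  have hkey : ∀ (a : ι), ∑ᶠ x ∈ p ⁻¹' {y}, Cyc.divFun δX (ξ a) (f a) x *
      ((AlgebraicCycle.mapCoeff p δX δY x : ℕ) : ℤ) =
      if δX (ξ a) = δY (p (ξ a)) then
        Cyc.divFun δY (p (ξ a)) (Cyc.normGen p (ξ a) (f a)) y else 0 :=
    fun a => key δX δY hX hY p hδ (ξ a) (f a) (hf a) y
  obtain ⟨U, ⟨hUo, hUc⟩, hyU, -⟩ :=
    (PrespectralSpace.isTopologicalBasis (X := Y)).exists_subset_of_mem_open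
      (Set.mem_univ y) isOpen_univ
  have hT : IsCompact (p ⁻¹' U) := p.isSpectralMap.2 hUo hUc
  have hFT : p ⁻¹' {y} ⊆ p ⁻¹' U := by
    intro x hx
    show p x ∈ U
    have hx' : p x = y := hx
    rw [hx']
    exact hyU
  have hI₀ := finite_index_of_isCompact ξ hlf (p ⁻¹' U) hT
  have hfinD : ∀ a, (p ⁻¹' {y} ∩ Function.support (Cyc.divFun δX (ξ a) (f a))).Finite := by
    intro a
    obtain ⟨D, hD⟩ := exists_cycle_single δX hX (ξ a) (f a) (hf a)
    rw [← hD]
    exact (D.locallyFiniteSupport.finite_inter_support_of_isCompact hT).subset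
      (Set.inter_subset_inter_left _ hFT)
  change (∑ᶠ x ∈ p ⁻¹' {y}, E x * ((AlgebraicCycle.mapCoeff p δX δY x : ℕ) : ℤ)) = _
  have hx_sum : ∀ x ∈ p ⁻¹' {y}, E x * ((AlgebraicCycle.mapCoeff p δX δY x : ℕ) : ℤ) =
      ∑ a ∈ hI₀.toFinset, Cyc.divFun δX (ξ a) (f a) x *
        ((AlgebraicCycle.mapCoeff p δX δY x : ℕ) : ℤ) := by
    intro x hx
    rw [hE x, ← Finset.sum_mul]
    congr 1
    apply finsum_eq_sum_of_support_subset
    intro a ha
    rw [Function.mem_support] at ha
    rw [Finset.mem_coe, Set.Finite.mem_toFinset]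
    exact ⟨x, specializes_iff_mem_closure.mp (divFun_ne_zero_specializes δX _ _ x ha), hFT hx⟩
  rw [finsum_mem_congr rfl hx_sum]
  rw [finsum_mem_finset_sum_comm (p ⁻¹' {y}) hI₀.toFinset
    (fun a x => Cyc.divFun δX (ξ a) (f a) x * ((AlgebraicCycle.mapCoeff p δX δY x : ℕ) : ℤ))]
  swap
  · intro a _
    refine (hfinD a).subset ?_
    rintro x ⟨hx, hxs⟩
    refine ⟨hx, ?_⟩
    rw [Function.mem_support] at hxs ⊢
    intro h0
    apply hxs
    show Cyc.divFun δX (ξ a) (f a) x * _ = 0
    rw [h0, zero_mul]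
  rw [Finset.sum_congr rfl (fun a _ => hkey a)]
  have hR0 : ∀ a, a ∉ hI₀.toFinset → (if δX (ξ a) = δY (p (ξ a)) then
      Cyc.divFun δY (p (ξ a)) (Cyc.normGen p (ξ a) (f a)) y else 0) = 0 := by
    intro a ha
    rw [← hkey a]
    apply finsum_mem_eq_zero_of_forall_eq_zero
    intro x hx
    have h0 : Cyc.divFun δX (ξ a) (f a) x = 0 := by
      by_contra hne
      apply ha
      rw [Set.Finite.mem_toFinset]
      exact ⟨x, specializes_iff_mem_closure.mp (divFun_ne_zero_specializes δX _ _ x hne),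
        hFT hx⟩
    rw [h0, zero_mul]
  symm
  apply finsum_eq_sum_of_support_subset
  intro a ha
  rw [Function.mem_support] at ha
  by_contra hn
  exact ha (hR0 a hn)

theorem divFun_congr_symm {X : Scheme.{u}} (δ : X → ℤ) {a b : X} (h : a = b)
    (r : X.residueField b) (x : X) :
    Cyc.divFun δ a ((X.residueFieldCongr h.symm).hom.hom r) x = Cyc.divFun δ b r x := by
  subst h
  rfl

end MapFamily

section Point

/-- the image of the closed point under a lift of the canonical morphism of a point has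
the same residue field -/
theorem bijective_of_lift {P Y : Scheme.{u}} (p : P ⟶ Y) (v : Y)
    (ℓ : Spec (Y.residueField v) ⟶ P) (hℓ : ℓ ≫ p = Y.fromSpecResidueField v) :
    p (ℓ (closedPoint (Y.residueField v))) = v ∧
      Function.Bijective (p.residueFieldMap (ℓ (closedPoint (Y.residueField v)))).hom := by
  have hπ : p (ℓ (closedPoint (Y.residueField v))) = v := by
    show (ℓ ≫ p) (closedPoint (Y.residueField v)) = v
    rw [hℓ]
    exact Scheme.fromSpecResidueField_apply v _
  refine ⟨hπ, ?_⟩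
  have hcomp := Scheme.descResidueField_stalkClosedPointTo_comp (K := Y.residueField v)
    (f := p) ℓ
  obtain ⟨hE1, -⟩ := desc_fromSpecResidueField Y v (ℓ ≫ p) hℓ
  have hcomp' : ∀ a : Y.residueField (p (ℓ (closedPoint (Y.residueField v)))),
      (Scheme.descResidueField (K := Y.residueField v)
        (Scheme.stalkClosedPointTo (ℓ ≫ p))).hom a =
      (Scheme.descResidueField (K := Y.residueField v) (Scheme.stalkClosedPointTo ℓ)).hom
        ((p.residueFieldMap (ℓ (closedPoint (Y.residueField v)))).hom a) :=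
    fun a => DFunLike.congr_fun (congrArg CommRingCat.Hom.hom hcomp) a
  have hdinj : Function.Injective (Scheme.descResidueField (K := Y.residueField v)
      (Scheme.stalkClosedPointTo ℓ)).hom := RingHom.injective _
  refine ⟨RingHom.injective _, ?_⟩
  intro b
  obtain ⟨c, hc⟩ := hE1.2 ((Scheme.descResidueField (K := Y.residueField v)
    (Scheme.stalkClosedPointTo ℓ)).hom b)
  exact ⟨c, hdinj ((hcomp' c).symm.trans hc)⟩

/-- a point of the fibre square over a pair of points, the second of which has trivial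
residue field extension over the base, with the residue field of the first point -/
theorem exists_tau {X Y : Scheme.{u}} (f : Y ⟶ X) (v w : Y) (e : f w = f v)
    (hb : Function.Bijective (f.residueFieldMap w).hom) :
    ∃ t : ↥(pullback f f), pullback.fst f f t = v ∧ pullback.snd f f t = w ∧
      Function.Bijective ((pullback.fst f f).residueFieldMap t).hom := by
  let E := RingEquiv.ofBijective (f.residueFieldMap w).hom hb
  let θ : Y.residueField w ⟶ Y.residueField v :=
    CommRingCat.ofHom ((((X.residueFieldCongr e).hom ≫ f.residueFieldMap v).hom).comp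
      E.symm.toRingHom)
  have hθ : f.residueFieldMap w ≫ θ = (X.residueFieldCongr e).hom ≫ f.residueFieldMap v := by
    ext a
    show ((X.residueFieldCongr e).hom ≫ f.residueFieldMap v).hom
      (E.symm ((f.residueFieldMap w).hom a)) = _
    have h1 : E.symm ((f.residueFieldMap w).hom a) = a := E.symm_apply_apply a
    rw [h1]
  have hcomm : Y.fromSpecResidueField v ≫ f =
      (Spec.map θ ≫ Y.fromSpecResidueField w) ≫ f := by
    have h1 := Scheme.Hom.SpecMap_residueFieldMap_fromSpecResidueField f v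
    have h2 := Scheme.Hom.SpecMap_residueFieldMap_fromSpecResidueField f w
    have h3 := Scheme.residueFieldCongr_fromSpecResidueField (X := X) e
    rw [Category.assoc, ← h2, ← h1, ← Category.assoc, ← Spec.map_comp, hθ, Spec.map_comp,
      Category.assoc, h3]
  let ℓ : Spec (Y.residueField v) ⟶ pullback f f :=
    pullback.lift (Y.fromSpecResidueField v) (Spec.map θ ≫ Y.fromSpecResidueField w) hcomm
  have hℓ1 : ℓ ≫ pullback.fst f f = Y.fromSpecResidueField v := pullback.lift_fst _ _ _
  have hℓ2 : ℓ ≫ pullback.snd f f = Spec.map θ ≫ Y.fromSpecResidueField w :=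
    pullback.lift_snd _ _ _
  obtain ⟨h1, h2⟩ := bijective_of_lift (pullback.fst f f) v ℓ hℓ1
  refine ⟨ℓ (closedPoint (Y.residueField v)), h1, ?_, h2⟩
  show (ℓ ≫ pullback.snd f f) (closedPoint (Y.residueField v)) = w
  rw [hℓ2]
  exact Scheme.fromSpecResidueField_apply w _

/-- the coefficients of the two projections at such a point -/
theorem mapCoeff_snd_eq {X Y : Scheme.{u}} (f : Y ⟶ X) (δ : X → ℤ) (δY : Y → ℤ)
    (hδ : Cyc.DeltaCompat f δY δ) (δ2 : ↥(pullback f f) → ℤ)
    (hδ2 : Cyc.DeltaCompat (pullback.fst f f) δ2 δY) (t : ↥(pullback f f))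
    (hp : Function.Bijective ((pullback.fst f f).residueFieldMap t).hom)
    (hq : Function.Bijective (f.residueFieldMap (pullback.snd f f t)).hom) :
    δ2 t = δY (pullback.fst f f t) ∧ (pullback.fst f f).residueDegree t = 1 ∧
    AlgebraicCycle.mapCoeff (pullback.snd f f) δ2 δY t =
      AlgebraicCycle.mapCoeff f δY δ (pullback.fst f f t) := by
  have hd2 : δ2 t = δY (pullback.fst f f t) := by
    obtain ⟨m, hm, hδm⟩ := hδ2 t
    have h3 : trdegAt (pullback.fst f f) t = m := hm
    rw [trdegAt_eq_zero_of_bijective _ _ hp] at h3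
    have hm0 : m = 0 := by exact_mod_cast h3.symm
    rw [hδm, hm0]
    simp
  have hdq : δY (pullback.snd f f t) = δ (f (pullback.snd f f t)) := by
    obtain ⟨m, hm, hδm⟩ := hδ (pullback.snd f f t)
    have h3 : trdegAt f (pullback.snd f f t) = m := hm
    rw [trdegAt_eq_zero_of_bijective _ _ hq] at h3
    have hm0 : m = 0 := by exact_mod_cast h3.symm
    rw [hδm, hm0]
    simp
  have hpt : f (pullback.fst f f t) = f (pullback.snd f f t) := by
    show (pullback.fst f f ≫ f) t = (pullback.snd f f ≫ f) t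
    rw [pullback.condition]
  have hdeg : (pullback.snd f f).residueDegree t = f.residueDegree (pullback.fst f f t) := by
    have h1 := residueDegree_comp' (pullback.fst f f) f t
    have h2 := residueDegree_comp' (pullback.snd f f) f t
    rw [pullback.condition] at h1
    rw [h1, residueDegree_eq_one_of_bijective _ _ hp,
      residueDegree_eq_one_of_bijective _ _ hq, mul_one, one_mul] at h2
    exact h2.symm
  refine ⟨hd2, residueDegree_eq_one_of_bijective _ _ hp, ?_⟩
  unfold AlgebraicCycle.mapCoeff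
  show (if δ2 t = δY (pullback.snd f f t) then (pullback.snd f f).residueDegree t else 0) =
    (if δY (pullback.fst f f t) = δ (f (pullback.fst f f t)) then
      f.residueDegree (pullback.fst f f t) else 0)
  rw [hdeg, hd2, hdq, hpt]

end Point

section Main

/-- exactness in the middle of the sequence of cycle class groups attached to an envelope -/
theorem S6483_main (X Y : Scheme.{u}) (δ : X → ℤ) (δY : Y → ℤ) (hX : Cyc.IsSetup X δ)
    (hY : Cyc.IsSetup Y δY) (f : Y ⟶ X) [IsProper f] (hcd : Cyc.IsCompletelyDecomposed f)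
    (hδ : Cyc.DeltaCompat f δY δ) (δ2 : ↥(pullback f f) → ℤ)
    (hδ2 : Cyc.DeltaCompat (pullback.fst f f) δ2 δY) (k : ℤ) (β : AlgebraicCycle Y ℤ)
    (hβ : β ∈ Cyc.Zk Y δY k) (h0 : Cyc.RatEquivZero δ k (AlgebraicCycle.map f δY δ β)) :
    ∃ γ : AlgebraicCycle (pullback f f) ℤ, γ ∈ Cyc.Zk (pullback f f) δ2 k ∧
      Cyc.RatEquiv δY k β (AlgebraicCycle.map (pullback.fst f f) δ2 δY γ -
        AlgebraicCycle.map (pullback.snd f f) δ2 δY γ) := by
  classical
  choose s hs using hcd
  have hsb : ∀ x : X, Function.Bijective (f.residueFieldMap (s x)).hom :=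
    fun x => ⟨RingHom.injective _, (hs x).2⟩
  have hdimS : ∀ x : X, δY (s x) = δ (f (s x)) := by
    intro x
    obtain ⟨n, hn, hδn⟩ := hδ (s x)
    have h3 : trdegAt f (s x) = n := hn
    rw [trdegAt_eq_zero_of_bijective _ _ (hsb x)] at h3
    have hn0 : n = 0 := by exact_mod_cast h3.symm
    rw [hδn, hn0]
    simp
  -- the points of the fibre square
  have hτex : ∀ v : Y, ∃ t : ↥(pullback f f), pullback.fst f f t = v ∧
      pullback.snd f f t = s (f v) ∧
      Function.Bijective ((pullback.fst f f).residueFieldMap t).hom :=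
    fun v => exists_tau f v (s (f v)) (hs (f v)).1 (hsb (f v))
  choose τ hτ1 hτ2 hτ3 using hτex
  have hτq : ∀ v : Y, Function.Bijective
      (f.residueFieldMap (pullback.snd f f (τ v))).hom := by
    intro v
    rw [hτ2 v]
    exact hsb (f v)
  have hA : ∀ v : Y, δ2 (τ v) = δY v := by
    intro v
    have h := (mapCoeff_snd_eq f δ δY hδ δ2 hδ2 (τ v) (hτ3 v) (hτq v)).1
    rw [hτ1 v] at h
    exact h
  have hB : ∀ v : Y, AlgebraicCycle.mapCoeff (pullback.fst f f) δ2 δY (τ v) = 1 := by
    intro v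
    obtain ⟨h1, h2, -⟩ := mapCoeff_snd_eq f δ δY hδ δ2 hδ2 (τ v) (hτ3 v) (hτq v)
    unfold AlgebraicCycle.mapCoeff
    show (if δ2 (τ v) = δY (pullback.fst f f (τ v)) then
      (pullback.fst f f).residueDegree (τ v) else 0) = 1
    rw [if_pos h1, h2]
  have hC : ∀ v : Y, AlgebraicCycle.mapCoeff (pullback.snd f f) δ2 δY (τ v) =
      AlgebraicCycle.mapCoeff f δY δ v := by
    intro v
    have h := (mapCoeff_snd_eq f δ δY hδ δ2 hδ2 (τ v) (hτ3 v) (hτq v)).2.2
    rw [hτ1 v] at h
    exact h
  obtain ⟨ι, ξ, r, hδξ, hr, hlf, hsum⟩ := h0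
  -- the lifted family
  obtain ⟨ξ', hξ'⟩ : ∃ ξ' : ι → Y, ∀ i, ξ' i = s (ξ i) := ⟨fun i => s (ξ i), fun i => rfl⟩
  have he : ∀ i, f (ξ' i) = ξ i := fun i => by
    rw [hξ' i]
    exact (hs (ξ i)).1
  have hbξ : ∀ i, Function.Bijective (f.residueFieldMap (ξ' i)).hom := fun i => by
    rw [hξ' i]
    exact hsb (ξ i)
  have hdim' : ∀ i, δY (ξ' i) = δ (f (ξ' i)) := fun i => by
    rw [hξ' i]
    exact hdimS (ξ i)
  obtain ⟨c, hc_def⟩ : ∃ c : (i : ι) → X.residueField (f (ξ' i)),
      ∀ i, c i = (X.residueFieldCongr (he i).symm).hom.hom (r i) :=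
    ⟨fun i => (X.residueFieldCongr (he i).symm).hom.hom (r i), fun i => rfl⟩
  obtain ⟨g, hg_def⟩ : ∃ g : (i : ι) → Y.residueField (ξ' i),
      ∀ i, g i = (f.residueFieldMap (ξ' i)).hom (c i) :=
    ⟨fun i => (f.residueFieldMap (ξ' i)).hom (c i), fun i => rfl⟩
  have hc : ∀ i, c i ≠ 0 := fun i => by
    rw [hc_def i]
    exact (map_ne_zero_iff _ (RingHom.injective _)).mpr (hr i)
  have hg : ∀ i, g i ≠ 0 := fun i => by
    rw [hg_def i]
    exact (map_ne_zero_iff _ (RingHom.injective _)).mpr (hc i)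
  have hnorm : ∀ i, Cyc.normGen f (ξ' i) (g i) = c i := fun i => by
    rw [hg_def i]
    exact normGen_of_bijective f (ξ' i) (hbξ i) (c i)
  have hdivc : ∀ i x, Cyc.divFun δ (f (ξ' i)) (c i) x = Cyc.divFun δ (ξ i) (r i) x :=
    fun i x => by
      rw [hc_def i]
      exact divFun_congr_symm δ (he i) (r i) x
  have hlf' : ∀ y : Y, ∃ U : Set Y, IsOpen U ∧ y ∈ U ∧
      {i | (closure {ξ' i} ∩ U).Nonempty}.Finite := by
    intro y
    obtain ⟨U, hUo, hyU, hfin⟩ := hlf (f y)
    refine ⟨f ⁻¹' U, hUo.preimage f.continuous, hyU, ?_⟩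
    refine hfin.subset ?_
    rintro i ⟨y', hy'1, hy'2⟩
    have hsp : ξ' i ⤳ y' := specializes_iff_mem_closure.mpr hy'1
    have hsp2 : f (ξ' i) ⤳ f y' := hsp.map f.continuous
    rw [he i] at hsp2
    exact ⟨f y', specializes_iff_mem_closure.mp hsp2, hy'2⟩
  have hδξ' : ∀ i, δY (ξ' i) = k + 1 := fun i => by
    rw [hdim' i, he i]
    exact hδξ i
  obtain ⟨E, hE⟩ := exists_cycle_of_family δY hY ι ξ' g hg hlf'
  have hEZ : E ∈ Cyc.Zk Y δY k := mem_Zk_of_family δY k ι ξ' g hδξ' E hE
  have hfE : ∀ x, (AlgebraicCycle.map f δY δ E) x = (AlgebraicCycle.map f δY δ β) x := by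
    intro x
    rw [map_family Y X δY δ hY hX f hδ ι ξ' g hg hlf' E hE x, hsum x]
    apply finsum_congr
    intro i
    rw [if_pos (hdim' i), hnorm i, hdivc i x]
  have hfinγ : ∀ (x : X) (γ' : AlgebraicCycle Y ℤ), (f ⁻¹' {x} ∩ Function.support
      (fun v => γ' v * ((AlgebraicCycle.mapCoeff f δY δ v : ℕ) : ℤ))).Finite := by
    intro x γ'
    obtain ⟨U, ⟨hUo, hUc⟩, hxU, -⟩ :=
      (PrespectralSpace.isTopologicalBasis (X := X)).exists_subset_of_mem_open
        (Set.mem_univ x) isOpen_univ
    have hT : IsCompact (f ⁻¹' U) := f.isSpectralMap.2 hUo hUc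
    refine (γ'.locallyFiniteSupport.finite_inter_support_of_isCompact hT).subset ?_
    rintro v ⟨hv, hvs⟩
    refine ⟨?_, ?_⟩
    · show f v ∈ U
      have hv' : f v = x := hv
      rw [hv']
      exact hxU
    · rw [Function.mem_support] at hvs ⊢
      intro h0
      apply hvs
      have h0' : γ' v = 0 := h0
      show γ' v * _ = 0
      rw [h0', zero_mul]
  -- the difference cycle
  obtain ⟨cc, hcc⟩ : ∃ cc : AlgebraicCycle Y ℤ, ∀ y, cc y = β y - E y :=
    ⟨β - E, fun y => by rw [Function.locallyFinsuppWithin.coe_sub, Pi.sub_apply]⟩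
  have hccZ : ∀ y, δY y ≠ k → cc y = 0 := fun y hy => by
    rw [hcc, hβ y hy, hEZ y hy, sub_zero]
  have hfcc : ∀ x : X, ∑ᶠ v ∈ f ⁻¹' {x},
      cc v * ((AlgebraicCycle.mapCoeff f δY δ v : ℕ) : ℤ) = 0 := by
    intro x
    have h1 : ∑ᶠ v ∈ f ⁻¹' {x}, E v * ((AlgebraicCycle.mapCoeff f δY δ v : ℕ) : ℤ) =
        ∑ᶠ v ∈ f ⁻¹' {x}, β v * ((AlgebraicCycle.mapCoeff f δY δ v : ℕ) : ℤ) := hfE x
    have h2 : ∑ᶠ v ∈ f ⁻¹' {x}, cc v * ((AlgebraicCycle.mapCoeff f δY δ v : ℕ) : ℤ) =
        ∑ᶠ v ∈ f ⁻¹' {x}, (β v * ((AlgebraicCycle.mapCoeff f δY δ v : ℕ) : ℤ) -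
          E v * ((AlgebraicCycle.mapCoeff f δY δ v : ℕ) : ℤ)) :=
      finsum_mem_congr rfl (fun v _ => by rw [hcc, sub_mul])
    rw [h2, finsum_mem_sub_distrib'' _ _ _ (hfinγ x β) (hfinγ x E), h1, sub_self]
  -- the cycle on the fibre square
  obtain ⟨G, hG⟩ : ∃ G : ↥(pullback f f) → ℤ, ∀ t, G t =
      if t = τ (pullback.fst f f t) then cc (pullback.fst f f t) else 0 :=
    ⟨fun t => if t = τ (pullback.fst f f t) then cc (pullback.fst f f t) else 0, fun t => rfl⟩
  have hG_ne : ∀ t, G t ≠ 0 → t = τ (pullback.fst f f t) ∧ cc (pullback.fst f f t) ≠ 0 := by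
    intro t ht
    by_cases h : t = τ (pullback.fst f f t)
    · refine ⟨h, ?_⟩
      intro h0
      apply ht
      rw [hG t, if_pos h, h0]
    · exfalso
      apply ht
      rw [hG t, if_neg h]
  have hG_pos : ∀ t, t = τ (pullback.fst f f t) → G t = cc (pullback.fst f f t) := by
    intro t h
    rw [hG t, if_pos h]
  have hGτ : ∀ v, G (τ v) = cc v := by
    intro v
    rw [hG (τ v), hτ1 v, if_pos rfl]
  let γ : AlgebraicCycle (pullback f f) ℤ :=
    { toFun := G
      supportWithinDomain' := Set.subset_univ _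
      supportLocallyFiniteWithinDomain' := fun t₀ _ => by
        obtain ⟨N, hN, hfin⟩ := cc.supportLocallyFiniteWithinDomain (pullback.fst f f t₀)
          (Set.mem_univ _)
        refine ⟨(pullback.fst f f) ⁻¹' N, (pullback.fst f f).continuous.continuousAt hN, ?_⟩
        refine (hfin.image τ).subset ?_
        rintro t ⟨htN, htG⟩
        obtain ⟨h1, h2⟩ := hG_ne t htG
        exact ⟨pullback.fst f f t, ⟨htN, h2⟩, h1.symm⟩ }
  have hγ : ∀ t, γ t = G t := fun t => rfl
  have hγZ : γ ∈ Cyc.Zk (pullback f f) δ2 k := by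
    intro t ht
    rw [hγ]
    by_contra hne
    obtain ⟨h1, h2⟩ := hG_ne t hne
    apply h2
    apply hccZ
    intro hk
    apply ht
    have h3 : δ2 t = δ2 (τ (pullback.fst f f t)) := congrArg δ2 h1
    rw [h3, hA, hk]
  have hpγ : ∀ y, (AlgebraicCycle.map (pullback.fst f f) δ2 δY γ) y = cc y := by
    intro y
    change (∑ᶠ t ∈ (pullback.fst f f) ⁻¹' {y}, γ t *
      ((AlgebraicCycle.mapCoeff (pullback.fst f f) δ2 δY t : ℕ) : ℤ)) = cc y
    rw [finsum_mem_def, finsum_eq_single _ (τ y)]
    · have hmem : τ y ∈ (pullback.fst f f) ⁻¹' {y} := hτ1 y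
      rw [Set.indicator_of_mem hmem, hγ, hGτ y, hB y]
      simp
    · intro t ht
      by_cases hmem : t ∈ (pullback.fst f f) ⁻¹' {y}
      · have hmem' : pullback.fst f f t = y := hmem
        rw [Set.indicator_of_mem hmem, hγ]
        have h0 : G t = 0 := by
          by_contra hne
          obtain ⟨h1, -⟩ := hG_ne t hne
          exact ht (h1.trans (congrArg τ hmem'))
        rw [h0, zero_mul]
      · rw [Set.indicator_of_notMem hmem]
  have hqγ : ∀ y', (AlgebraicCycle.map (pullback.snd f f) δ2 δY γ) y' = 0 := by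
    intro y'
    change (∑ᶠ t ∈ (pullback.snd f f) ⁻¹' {y'}, γ t *
      ((AlgebraicCycle.mapCoeff (pullback.snd f f) δ2 δY t : ℕ) : ℤ)) = 0
    by_cases hy' : y' = s (f y')
    swap
    · apply finsum_mem_eq_zero_of_forall_eq_zero
      intro t ht
      have ht' : pullback.snd f f t = y' := ht
      by_cases hG0 : G t = 0
      · rw [hγ, hG0, zero_mul]
      · exfalso
        obtain ⟨h1, -⟩ := hG_ne t hG0
        apply hy'
        have h2 : y' = s (f (pullback.fst f f t)) :=
          ht'.symm.trans ((congrArg (fun z => pullback.snd f f z) h1).trans (hτ2 _))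
        have h3 : f y' = f (pullback.fst f f t) := by
          rw [h2]
          exact (hs _).1
        rw [h3]
        exact h2
    · have hS : (pullback.snd f f) ⁻¹' {y'} ∩ Function.support (fun t => γ t *
            ((AlgebraicCycle.mapCoeff (pullback.snd f f) δ2 δY t : ℕ) : ℤ)) =
          {t | pullback.snd f f t = y' ∧ t = τ (pullback.fst f f t)} ∩
            Function.support (fun t => γ t *
              ((AlgebraicCycle.mapCoeff (pullback.snd f f) δ2 δY t : ℕ) : ℤ)) := by
        ext t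
        constructor
        · rintro ⟨h1, h2⟩
          refine ⟨⟨h1, ?_⟩, h2⟩
          rw [Function.mem_support] at h2
          have hGne : G t ≠ 0 := fun h0 => h2 (by rw [hγ, h0, zero_mul])
          exact (hG_ne t hGne).1
        · rintro ⟨⟨h1, -⟩, h2⟩
          exact ⟨h1, h2⟩
      have hstep := finsum_mem_inter_support_eq (fun t => γ t *
        ((AlgebraicCycle.mapCoeff (pullback.snd f f) δ2 δY t : ℕ) : ℤ)) _ _ hS
      rw [hstep]
      have hbij := finsum_mem_eq_of_bijOn
        (s := {t | pullback.snd f f t = y' ∧ t = τ (pullback.fst f f t)})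
        (t := f ⁻¹' {f y'})
        (f := fun t => γ t * ((AlgebraicCycle.mapCoeff (pullback.snd f f) δ2 δY t : ℕ) : ℤ))
        (g := fun v => cc v * ((AlgebraicCycle.mapCoeff f δY δ v : ℕ) : ℤ))
        (fun t => pullback.fst f f t) ?_ ?_
      · rw [hbij]
        exact hfcc (f y')
      · refine ⟨?_, ?_, ?_⟩
        · rintro t ⟨h1, h2⟩
          show f (pullback.fst f f t) = f y'
          have hpt : f (pullback.fst f f t) = f (pullback.snd f f t) := by
            show (pullback.fst f f ≫ f) t = (pullback.snd f f ≫ f) t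
            rw [pullback.condition]
          rw [hpt, h1]
        · rintro t₁ ⟨-, h1⟩ t₂ ⟨-, h2⟩ h12
          have h12' : pullback.fst f f t₁ = pullback.fst f f t₂ := h12
          exact h1.trans ((congrArg τ h12').trans h2.symm)
        · intro v hv
          have hv' : f v = f y' := hv
          refine ⟨τ v, ⟨?_, ?_⟩, hτ1 v⟩
          · show pullback.snd f f (τ v) = y'
            rw [hτ2 v, hv']
            exact hy'.symm
          · show τ v = τ (pullback.fst f f (τ v))
            rw [hτ1 v]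
      · rintro t ⟨h1, h2⟩
        show γ t * _ = cc (pullback.fst f f t) * _
        have e1 : γ t = cc (pullback.fst f f t) := hG_pos t h2
        have e2 : AlgebraicCycle.mapCoeff (pullback.snd f f) δ2 δY t =
            AlgebraicCycle.mapCoeff f δY δ (pullback.fst f f t) :=
          (congrArg (fun z => AlgebraicCycle.mapCoeff (pullback.snd f f) δ2 δY z) h2).trans
            (hC _)
        rw [e1, e2]
  refine ⟨γ, hγZ, ?_⟩
  show Cyc.RatEquivZero δY k (β - (AlgebraicCycle.map (pullback.fst f f) δ2 δY γ -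
    AlgebraicCycle.map (pullback.snd f f) δ2 δY γ))
  refine ⟨ι, ξ', g, hδξ', hg, hlf', fun y => ?_⟩
  rw [Function.locallyFinsuppWithin.coe_sub, Pi.sub_apply,
    Function.locallyFinsuppWithin.coe_sub, Pi.sub_apply, hpγ y, hqγ y, hcc y, ← hE y]
  ring

end Main

end Groth.Agent.Helper7.CycEnv
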